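import Cfsg.Agent.H603.CC.Defs
import Cfsg.Agent.ClassicalGeometry.UnitGenTwo
import Cfsg.Agent.ClassicalGeometry.HermOrthonormal
import Cfsg.Agent.ClassicalGeometry.GUBasic

/-!
# Generation by transvections, abstract form (S4793 [GEN], helper269)
-/

set_option autoImplicit false

open Cfsg
open scoped ComplexConjugate Matrix

namespace Cfsg.Agent.H269.CC

open Module Cfsg.Agent.H603.CC Cfsg.Agent.ClassicalGeometry

universe u v

variable {F : Type u} {V : Type v} [Field F] [AddCommGroup V] [Module F V] {q : ℕ} {σ : F →+* F}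
  {B : V →ₛₗ[σ] V →ₗ[F] F}

section Frame

variable [Finite F] [Finite V]

theorem exists_frame (h : HS q σ B) : ∃ j : (Fin (finrank F V) → F) ≃ₗ[F] V,
    ∀ x y, B (j x) (j y) = hermForm (finrank F V) F q y x := by
  obtain ⟨b, hb⟩ := HermOrthonormal.exists_orthonormal_basis h.ne_id h.inv B h.symm h.sep
  refine ⟨b.equivFun.symm, fun x y => ?_⟩
  rw [Basis.equivFun_symm_apply, Basis.equivFun_symm_apply, map_sum, GUBasic.hermForm_apply]
  refine Finset.sum_congr rfl fun i _ => ?_
  rw [map_smul, map_sum, LinearMap.sum_apply, Finset.sum_eq_single i]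
  · rw [LinearMap.map_smulₛₗ, LinearMap.smul_apply, hb, if_pos rfl, h.sig]
    simp only [smul_eq_mul, mul_one]
  · intro k _ hk
    rw [LinearMap.map_smulₛₗ, LinearMap.smul_apply, hb, if_neg hk, smul_zero]
  · intro hi
    exact absurd (Finset.mem_univ i) hi

end Frame

section Hom

variable {n : ℕ} (j : (Fin n → F) ≃ₗ[F] V) (hj : ∀ x y, B (j x) (j y) = hermForm n F q y x)

/-- the matrix of an element -/
abbrev mt (A : SU n F q) : Matrix (Fin n) (Fin n) F := ((A : Matrix.SpecialLinearGroup (Fin n) F) : Matrix _ _ F)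

theorem herm_mt (A : SU n F q) (u w : Fin n → F) :
    hermForm n F q (mt A *ᵥ u) (mt A *ᵥ w) = hermForm n F q u w := A.2 u w

/-- the isometry of a matrix -/
noncomputable def toU (A : SU n F q) : UU B :=
  mkU ((j.symm.trans (Matrix.SpecialLinearGroup.toLin' (A : Matrix.SpecialLinearGroup (Fin n) F))).trans j) (by
    intro x y
    have h1 : ∀ x, ((j.symm.trans (Matrix.SpecialLinearGroup.toLin' (A : Matrix.SpecialLinearGroup (Fin n) F))).trans j) x
        = j (mt A *ᵥ j.symm x) := fun x => rfl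
    rw [h1, h1, hj, herm_mt, ← hj, j.apply_symm_apply, j.apply_symm_apply])

theorem ac_toU (A : SU n F q) (x : V) : ac B (toU j hj A) x = j (mt A *ᵥ j.symm x) := rfl

/-- the homomorphism -/
noncomputable def homU : SU n F q →* UU B :=
  MonoidHom.mk' (toU j hj) (by
    intro A A'
    apply ac_ext
    intro x
    rw [ac_mul, ac_toU, ac_toU, ac_toU, j.symm_apply_apply, Matrix.mulVec_mulVec]
    rfl)

theorem ac_homU (A : SU n F q) (x : V) : ac B (homU j hj A) x = j (mt A *ᵥ j.symm x) := rfl

theorem mulVec_transv (v x : Fin n → F) (c : F) :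
    unitaryTransvection n q v c *ᵥ x = x + (c * hermForm n F q x v) • v := by
  unfold unitaryTransvection
  rw [Matrix.add_mulVec, Matrix.one_mulVec, Matrix.smul_mulVec]
  congr 1
  ext i
  simp only [Pi.smul_apply, smul_eq_mul, Matrix.mulVec, dotProduct, Matrix.vecMulVec_apply, GUBasic.hermForm_apply]
  rw [Finset.mul_sum, Finset.mul_sum, Finset.sum_mul]
  refine Finset.sum_congr rfl fun k _ => ?_
  ring

theorem mem_of_mem_T {N : Subgroup (UU B)} (hN : ∀ t : UU B, IsTv t → t ∈ N) {A : SU n F q}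
    (hA : A ∈ UnitGen.T F n q) : homU j hj A ∈ N := by
  have h1 : UnitGen.T F n q ≤ N.comap (homU j hj) := by
    unfold UnitGen.T
    rw [Subgroup.closure_le]
    rintro A ⟨v, c, hv, hA⟩
    show homU j hj A ∈ N
    by_cases h1 : homU j hj A = 1
    · rw [h1]; exact one_mem _
    have hac : ∀ x, ac B (homU j hj A) x = x + (c * B (j v) x) • j v := by
      intro x
      rw [ac_homU]
      have h2 : mt A = unitaryTransvection n q v c := hA
      rw [h2, mulVec_transv, map_add, j.apply_symm_apply, map_smul, ← hj, j.apply_symm_apply]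
    refine hN _ ⟨h1, j v, ?_, by rw [hj, hv], ?_⟩
    · intro h0
      apply h1
      apply ac_ext
      intro x
      rw [hac, h0, smul_zero, add_zero, ac_one]
    · intro w hw
      rw [hac, hw (j v) (Submodule.mem_span_singleton_self _), mul_zero, zero_smul, add_zero]
  exact h1 hA

theorem exists_homU {g : UU B} (hg : dt g = 1) : ∃ A : SU n F q, homU j hj A = g := by
  set L : (Fin n → F) →ₗ[F] (Fin n → F) := (j.symm.toLinearMap ∘ₗ (g : V ≃ₗ[F] V).toLinearMap) ∘ₗ j.toLinearMap with hL
  have hdet : (LinearMap.toMatrix' L).det = 1 := by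
    rw [LinearMap.det_toMatrix']
    have h1 : LinearMap.det L = LinearMap.det (g : V ≃ₗ[F] V).toLinearMap := by
      have h2 := LinearMap.det_conj (g : V ≃ₗ[F] V).toLinearMap j.symm
      rw [← h2]
      rfl
    rw [h1, ← LinearEquiv.coe_det]
    have h3 : LinearEquiv.det (g : V ≃ₗ[F] V) = 1 := hg
    rw [h3]
    rfl
  have hmul : ∀ x, LinearMap.toMatrix' L *ᵥ x = j.symm ((g : V ≃ₗ[F] V) (j x)) := by
    intro x
    rw [LinearMap.toMatrix'_mulVec]
    rfl
  refine ⟨⟨⟨LinearMap.toMatrix' L, hdet⟩, ?_⟩, ?_⟩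
  · intro u w
    show hermForm n F q (LinearMap.toMatrix' L *ᵥ u) (LinearMap.toMatrix' L *ᵥ w) = hermForm n F q u w
    rw [hmul, hmul, ← hj, ← hj, j.apply_symm_apply, j.apply_symm_apply]
    exact g.2 _ _
  · apply ac_ext
    intro x
    rw [ac_homU]
    show j (LinearMap.toMatrix' L *ᵥ j.symm x) = _
    rw [hmul, j.apply_symm_apply, j.apply_symm_apply]
    rfl

end Hom

/-- **`SU` is generated by transvections** -/
theorem gen_tv [Finite F] [Finite V] (h : HS q σ B) (h32 : ¬ (finrank F V = 3 ∧ q = 2)) {N : Subgroup (UU B)}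
    (hN : ∀ t : UU B, IsTv t → t ∈ N) {g : UU B} (hg : dt g = 1) : g ∈ N := by
  have := Fintype.ofFinite F
  obtain ⟨j, hj⟩ := exists_frame h
  obtain ⟨A, rfl⟩ := exists_homU j hj hg
  refine mem_of_mem_T j hj hN ?_
  rw [UnitGenTwo.T_eq_top (by rw [← Nat.card_eq_fintype_card, h.card]) h32]
  exact Subgroup.mem_top A

/-! ### The stabilizer of a vector of norm one -/

section Stab

variable {f : V} (hf : B f f = 1)

/-- the orthogonal complement of `f` -/
abbrev Pf (B : V →ₛₗ[σ] V →ₗ[F] F) (f : V) : Submodule F V := perp B (Submodule.span F {f})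

theorem mem_Pf {x : V} : x ∈ Pf B f ↔ B f x = 0 := by
  constructor
  · intro h
    exact h f (Submodule.mem_span_singleton_self _)
  · intro h w hw
    obtain ⟨c, rfl⟩ := Submodule.mem_span_singleton.1 hw
    rw [LinearMap.map_smulₛₗ, LinearMap.smul_apply, h, smul_zero]

/-- the restricted form -/
def Bf (B : V →ₛₗ[σ] V →ₗ[F] F) (f : V) : Pf B f →ₛₗ[σ] Pf B f →ₗ[F] F :=
  LinearMap.mk₂'ₛₗ σ (RingHom.id F) (fun x y => B (x : V) (y : V))
    (fun x x' y => by rw [Submodule.coe_add, map_add, LinearMap.add_apply])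
    (fun c x y => by rw [Submodule.coe_smul, LinearMap.map_smulₛₗ, LinearMap.smul_apply])
    (fun x y y' => by rw [Submodule.coe_add, map_add])
    (fun c x y => by rw [Submodule.coe_smul, map_smul]; rfl)

theorem Bf_apply (x y : Pf B f) : Bf B f x y = B (x : V) (y : V) := rfl

include hf

theorem sub_mem_Pf (x : V) : x - B f x • f ∈ Pf B f := by
  rw [mem_Pf, map_sub, map_smul, hf, smul_eq_mul, mul_one, sub_self]

/-- the projection on the complement -/
def pf (x : V) : Pf B f := ⟨x - B f x • f, sub_mem_Pf hf x⟩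

theorem pf_of_mem (x : Pf B f) : pf hf (x : V) = x := by
  apply Subtype.ext
  show (x : V) - B f x • f = x
  rw [mem_Pf.1 x.2, zero_smul, sub_zero]

theorem pf_self : pf hf f = 0 := by
  apply Subtype.ext
  show f - B f f • f = 0
  rw [hf, one_smul, sub_self]

theorem pf_add (x y : V) : pf hf (x + y) = pf hf x + pf hf y := by
  apply Subtype.ext
  show (x + y) - B f (x + y) • f = (x - B f x • f) + (y - B f y • f)
  rw [map_add, add_smul]
  abel

theorem pf_smul (c : F) (x : V) : pf hf (c • x) = c • pf hf x := by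
  apply Subtype.ext
  show c • x - B f (c • x) • f = c • (x - B f x • f)
  rw [map_smul, smul_eq_mul, smul_sub, smul_smul]

theorem HS.restrict [Finite F] (h : HS q σ B) : HS q σ (Bf B f) where
  two_le := h.two_le
  card := h.card
  sig := h.sig
  symm := ⟨fun x y => h.sy (x : V) (y : V)⟩
  sep := by
    intro x hx
    apply Subtype.ext
    apply h.ext
    intro y
    have h1 := hx (pf hf y)
    have h2 : B (x : V) (y - B f y • f) = 0 := h1
    rw [map_sub, map_smul, h.zero_symm (mem_Pf.1 x.2), smul_zero, sub_zero] at h2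
    exact h2

theorem finrank_Pf [Finite V] : finrank F (Pf B f) + 1 = finrank F V := by
  have h1 : Pf B f = LinearMap.ker (B f) := by
    ext x
    rw [mem_Pf, LinearMap.mem_ker]
  have h2 : LinearMap.range (B f) = ⊤ := by
    rw [LinearMap.range_eq_top]
    intro c
    exact ⟨c • f, by rw [map_smul, hf, smul_eq_mul, mul_one]⟩
  have h3 := LinearMap.finrank_range_add_finrank_ker (B f)
  rw [h2, finrank_top, finrank_self] at h3
  rw [h1, add_comm]
  exact h3

/-- the extension of a linear map of the complement -/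
def exL (g : Pf B f →ₗ[F] Pf B f) : V →ₗ[F] V where
  toFun x := (g (pf hf x) : V) + B f x • f
  map_add' x y := by
    rw [pf_add, map_add, Submodule.coe_add, map_add, add_smul]
    abel
  map_smul' c x := by
    rw [pf_smul, map_smul, Submodule.coe_smul, map_smul, smul_eq_mul, smul_add, smul_smul]
    rfl

theorem exL_apply (g : Pf B f →ₗ[F] Pf B f) (x : V) : exL hf g x = (g (pf hf x) : V) + B f x • f := rfl

theorem pf_exL (g : Pf B f →ₗ[F] Pf B f) (x : V) : pf hf (exL hf g x) = g (pf hf x) := by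
  rw [exL_apply, pf_add, pf_of_mem, pf_smul, pf_self, smul_zero, add_zero]

theorem B_exL (g : Pf B f →ₗ[F] Pf B f) (x : V) : B f (exL hf g x) = B f x := by
  rw [exL_apply, map_add, mem_Pf.1 (g (pf hf x)).2, zero_add, map_smul, hf, smul_eq_mul, mul_one]

theorem exL_mul (g g' : Pf B f →ₗ[F] Pf B f) (x : V) : exL hf g (exL hf g' x) = exL hf (g ∘ₗ g') x := by
  rw [exL_apply, pf_exL, B_exL, exL_apply]
  rfl

theorem exL_id (x : V) : exL hf LinearMap.id x = x := by
  rw [exL_apply]
  show (x - B f x • f) + B f x • f = x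
  rw [sub_add_cancel]

/-- the extension of an isometry -/
def ex (h : HS q σ B) [Finite F] (g : UU (Bf B f)) : UU B :=
  mkU
    { exL hf (g : Pf B f ≃ₗ[F] Pf B f).toLinearMap with
      invFun := exL hf (g : Pf B f ≃ₗ[F] Pf B f).symm.toLinearMap
      left_inv := fun x => by
        show exL hf _ (exL hf _ x) = x
        rw [exL_mul]
        have : (g : Pf B f ≃ₗ[F] Pf B f).symm.toLinearMap ∘ₗ (g : Pf B f ≃ₗ[F] Pf B f).toLinearMap = LinearMap.id := by
          ext y
          simp
        rw [this, exL_id]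
      right_inv := fun x => by
        show exL hf _ (exL hf _ x) = x
        rw [exL_mul]
        have : (g : Pf B f ≃ₗ[F] Pf B f).toLinearMap ∘ₗ (g : Pf B f ≃ₗ[F] Pf B f).symm.toLinearMap = LinearMap.id := by
          ext y
          simp
        rw [this, exL_id] }
    (fun x y => by
      show B (exL hf _ x) (exL hf _ y) = B x y
      have key : ∀ (a b : Pf B f) (c d : F), B ((a : V) + c • f) ((b : V) + d • f) = B (a : V) (b : V) + σ c * d := by
        intro a b c d
        have e1 : B ((a : V) + c • f) = B (a : V) + σ c • B f := by rw [map_add, LinearMap.map_smulₛₗ]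
        rw [e1, LinearMap.add_apply, LinearMap.smul_apply, map_add, map_add, map_smul, map_smul,
          h.zero_symm (mem_Pf.1 a.2), mem_Pf.1 b.2, hf]
        simp only [smul_eq_mul, mul_zero, mul_one, zero_add, add_zero]
      rw [exL_apply, exL_apply, key]
      have h1 : B ((g : Pf B f ≃ₗ[F] Pf B f) (pf hf x) : V) ((g : Pf B f ≃ₗ[F] Pf B f) (pf hf y) : V) =
          B (pf hf x : V) (pf hf y : V) := g.2 (pf hf x) (pf hf y)
      have h2 := key (pf hf x) (pf hf y) (B f x) (B f y)
      have h3 : ∀ x : V, ((pf hf x : Pf B f) : V) + B f x • f = x := fun x => sub_add_cancel _ _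
      rw [h3, h3] at h2
      rw [h2]
      exact congrArg (· + σ (B f x) * B f y) h1)

theorem ac_ex (h : HS q σ B) [Finite F] (g : UU (Bf B f)) (x : V) :
    ac B (ex hf h g) x = ((ac (Bf B f) g (pf hf x) : Pf B f) : V) + B f x • f := rfl

/-- the homomorphism -/
def exHom (h : HS q σ B) [Finite F] : UU (Bf B f) →* UU B :=
  MonoidHom.mk' (ex hf h) (by
    intro a b
    apply ac_ext
    intro x
    rw [ac_mul, ac_ex, ac_ex, ac_ex, pf_add, pf_of_mem, pf_smul, pf_self, smul_zero, add_zero, ac_mul, map_add,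
      mem_Pf.1 (ac (Bf B f) b (pf hf x)).2, zero_add, map_smul, hf, smul_eq_mul, mul_one])

theorem ac_exHom (h : HS q σ B) [Finite F] (g : UU (Bf B f)) (x : V) :
    ac B (exHom hf h g) x = ((ac (Bf B f) g (pf hf x) : Pf B f) : V) + B f x • f := rfl

theorem exHom_fix (h : HS q σ B) [Finite F] (g : UU (Bf B f)) : ac B (exHom hf h g) f = f := by
  rw [ac_exHom, pf_self, ac_zero, hf, one_smul]
  exact zero_add f

theorem exHom_of_mem (h : HS q σ B) [Finite F] (g : UU (Bf B f)) (x : Pf B f) :
    ac B (exHom hf h g) x = ((ac (Bf B f) g x : Pf B f) : V) := by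
  rw [ac_exHom, pf_of_mem, mem_Pf.1 x.2, zero_smul, add_zero]

theorem exHom_isTv (h : HS q σ B) [Finite F] {t : UU (Bf B f)} (ht : IsTv t) : IsTv (exHom hf h t) := by
  obtain ⟨ht1, e, he, hee, hte⟩ := ht
  refine ⟨?_, (e : V), fun h0 => he (Subtype.ext h0), hee, ?_⟩
  · intro h1
    apply ht1
    apply ac_ext
    intro x
    apply Subtype.ext
    rw [← exHom_of_mem hf h, h1, ac_one, ac_one]
  · intro w hw
    have h1 : B (e : V) w = 0 := hw e (Submodule.mem_span_singleton_self _)
    have h2 : ac (Bf B f) t (pf hf w) = pf hf w := by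
      apply hte
      intro x hx
      obtain ⟨c, rfl⟩ := Submodule.mem_span_singleton.1 hx
      rw [LinearMap.map_smulₛₗ, LinearMap.smul_apply, Bf_apply]
      have h3 : B (e : V) (w - B f w • f) = 0 := by
        rw [map_sub, map_smul, h1, h.zero_symm (mem_Pf.1 e.2), smul_zero, sub_zero]
      have h4 : B (e : V) ((pf hf w : Pf B f) : V) = 0 := h3
      rw [h4, smul_zero]
    rw [ac_exHom, h2]
    exact sub_add_cancel _ _

/-- an isometry fixing `f` is an extension -/
theorem exists_exHom (h : HS q σ B) [Finite F] [Finite V] {g : UU B} (hgf : ac B g f = f) :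
    ∃ g' : UU (Bf B f), exHom hf h g' = g := by
  have hmem : ∀ (g : UU B), ac B g f = f → ∀ x ∈ Pf B f, (g : V ≃ₗ[F] V) x ∈ Pf B f := by
    intro g hg x hx
    rw [mem_Pf] at hx ⊢
    have h1 := form_ac g f x
    rw [hg, hx] at h1
    exact h1
  have hg' : ac B g⁻¹ f = f := by
    conv_lhs => rw [← hgf]
    exact ac_inv_ac g f
  refine ⟨mkU
    { toFun := fun x => ⟨(g : V ≃ₗ[F] V) x, hmem g hgf x x.2⟩
      map_add' := fun x y => Subtype.ext (map_add _ _ _)
      map_smul' := fun c x => Subtype.ext (map_smul _ _ _)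
      invFun := fun x => ⟨((g⁻¹ : UU B) : V ≃ₗ[F] V) x, hmem g⁻¹ hg' x x.2⟩
      left_inv := fun x => Subtype.ext (ac_inv_ac g (x : V))
      right_inv := fun x => Subtype.ext (ac_ac_inv g (x : V)) } (fun x y => g.2 (x : V) (y : V)), ?_⟩
  apply ac_ext
  intro x
  rw [ac_exHom]
  show (g : V ≃ₗ[F] V) (x - B f x • f) + B f x • f = (g : V ≃ₗ[F] V) x
  rw [map_sub, map_smul]
  have h1 : (g : V ≃ₗ[F] V) f = f := hgf
  rw [h1, sub_add_cancel]

theorem dt_exHom (h : HS q σ B) [Finite F] [Finite V] (g : UU (Bf B f)) : dt (exHom hf h g) = dt g := by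
  have hinv : Pf B f ≤ (Pf B f).comap ((exHom hf h g : UU B) : V ≃ₗ[F] V).toLinearMap := by
    intro x hx
    have h1 := exHom_of_mem hf h g ⟨x, hx⟩
    have h2 : ((exHom hf h g : UU B) : V ≃ₗ[F] V) x = ((ac (Bf B f) g ⟨x, hx⟩ : Pf B f) : V) := h1
    show ((exHom hf h g : UU B) : V ≃ₗ[F] V) x ∈ Pf B f
    rw [h2]
    exact (ac (Bf B f) g ⟨x, hx⟩).2
  have h1 := LinearMap.det_eq_det_mul_det (W := Pf B f) ((exHom hf h g : UU B) : V ≃ₗ[F] V).toLinearMap hinv
  have h2 : ((exHom hf h g : UU B) : V ≃ₗ[F] V).toLinearMap.restrict hinv = (g : Pf B f ≃ₗ[F] Pf B f).toLinearMap := by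
    apply LinearMap.ext
    intro x
    exact Subtype.ext (exHom_of_mem hf h g x)
  have h3 : (Pf B f).mapQ (Pf B f) ((exHom hf h g : UU B) : V ≃ₗ[F] V).toLinearMap hinv = LinearMap.id := by
    apply LinearMap.ext
    intro y
    obtain ⟨x, rfl⟩ := Submodule.mkQ_surjective _ y
    rw [Submodule.mkQ_apply, Submodule.mapQ_apply, LinearMap.id_apply, Submodule.Quotient.eq]
    have h4 : ((exHom hf h g : UU B) : V ≃ₗ[F] V).toLinearMap x - x =
        ((ac (Bf B f) g (pf hf x) - pf hf x : Pf B f) : V) := by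
      have h5 : ((exHom hf h g : UU B) : V ≃ₗ[F] V).toLinearMap x =
          ((ac (Bf B f) g (pf hf x) : Pf B f) : V) + B f x • f := rfl
      have h6 : x = ((pf hf x : Pf B f) : V) + B f x • f := (sub_add_cancel _ _).symm
      rw [h5, Submodule.coe_sub]
      nth_rewrite 3 [h6]
      abel
    rw [h4]
    exact (ac (Bf B f) g (pf hf x) - pf hf x : Pf B f).2
  rw [h2, h3, LinearMap.det_id, mul_one] at h1
  apply Units.ext
  rw [dt_def, dt_def, LinearEquiv.coe_det, LinearEquiv.coe_det]
  exact h1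

end Stab

/-- **generation of the stabilizer of a vector of norm one** -/
theorem gen_tv_fix [Finite F] [Finite V] (h : HS q σ B) (h32 : ¬ (finrank F V = 4 ∧ q = 2)) {f : V} (hf : B f f = 1)
    {N : Subgroup (UU B)} (hN : ∀ t : UU B, IsTv t → ac B t f = f → t ∈ N) {g : UU B} (hg : dt g = 1)
    (hgf : ac B g f = f) : g ∈ N := by
  obtain ⟨g', rfl⟩ := exists_exHom hf h hgf
  have h1 := finrank_Pf (B := B) hf
  refine gen_tv (HS.restrict hf h) (N := N.comap (exHom hf h)) (fun ⟨h2, h3⟩ => h32 ⟨by omega, h3⟩) ?_ ?_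
  · intro t ht
    exact hN _ (exHom_isTv hf h ht) (exHom_fix hf h t)
  · rw [← dt_exHom hf h, hg]

end Cfsg.Agent.H269.CC
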